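import Groth.Prelude.Def_W4c3cyccovratcurvTree
import Mathlib.Combinatorics.SimpleGraph.Acyclic

/-! Conic deformations connect marked trees of equal size. -/

set_option autoImplicit false

namespace Groth.L14.Tree

open W4c3cyccovratcurv Relation SimpleGraph

variable {k : ℕ}

/-- Fold `w` into `u`. -/
def fold {n : ℕ} (u w x : Fin n) : Fin n := if x = w then u else x

theorem fold_ne {n : ℕ} {u w : Fin n} (h : u ≠ w) (x : Fin n) : fold u w x ≠ w := by
  unfold fold; split_ifs with hx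
  · exact h
  · exact hx

/-- Edge set of the tree obtained by sliding everything at `w` onto `u`. -/
def slideEdges {n : ℕ} (G : SimpleGraph (Fin n)) (u w : Fin n) : Set (Sym2 (Fin n)) :=
  insert s(u, w) (Sym2.map (fold u w) '' (G.edgeSet \ {s(u, w)}))

def slideGraph {n : ℕ} (G : SimpleGraph (Fin n)) (u w : Fin n) : SimpleGraph (Fin n) :=
  SimpleGraph.fromEdgeSet (slideEdges G u w)

theorem slide_adj_of_adj {n : ℕ} {G : SimpleGraph (Fin n)} {u w a b : Fin n} (h : G.Adj a b)
    (hne : fold u w a ≠ fold u w b) : (slideGraph G u w).Adj (fold u w a) (fold u w b) := by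
  refine ⟨?_, hne⟩
  refine Or.inr ⟨s(a, b), ⟨h, ?_⟩, rfl⟩
  intro he
  simp only [Set.mem_singleton_iff, Sym2.eq_iff] at he
  rcases he with ⟨rfl, rfl⟩ | ⟨rfl, rfl⟩ <;> apply hne <;> simp [fold]

theorem slide_reachable {n : ℕ} {G : SimpleGraph (Fin n)} {u w : Fin n} :
    ∀ {a b : Fin n}, G.Walk a b → (slideGraph G u w).Reachable (fold u w a) (fold u w b)
  | _, _, .nil => Reachable.refl _
  | a, b, .cons (v := c) h p => by
      refine Reachable.trans ?_ (slide_reachable p)
      by_cases he : fold u w a = fold u w c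
      · rw [he]
      · exact (slide_adj_of_adj h he).reachable

theorem slide_adj_uw {n : ℕ} {G : SimpleGraph (Fin n)} {u w : Fin n} (h : u ≠ w) :
    (slideGraph G u w).Adj u w := ⟨Set.mem_insert _ _, h⟩

theorem slide_isTree {n : ℕ} {G : SimpleGraph (Fin n)} {u w : Fin n} (hG : G.IsTree)
    (h : G.Adj u w) : (slideGraph G u w).IsTree := by
  classical
  haveI : Nonempty (Fin n) := ⟨u⟩
  have hconn : (slideGraph G u w).Connected := by
    refine ⟨fun a b => ?_⟩
    have key : ∀ x, (slideGraph G u w).Reachable (fold u w x) x := by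
      intro x
      unfold fold; split_ifs with hx
      · subst hx; exact (slide_adj_uw h.ne).reachable
      · rfl
    obtain ⟨p⟩ := hG.connected a b
    exact ((key a).symm.trans (slide_reachable p)).trans (key b)
  refine (isTree_iff_connected_and_card).mpr ⟨hconn, le_antisymm ?_ ?_⟩
  · have hc := (isTree_iff_connected_and_card).mp hG |>.2
    rw [← hc]
    gcongr
    unfold slideGraph
    rw [edgeSet_fromEdgeSet, Nat.card_coe_set_eq, Nat.card_coe_set_eq]
    refine (Set.ncard_le_ncard Set.sdiff_subset (Set.toFinite _)).trans ?_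
    refine (Set.ncard_insert_le _ _).trans ?_
    have h1 : (G.edgeSet \ {s(u, w)}).ncard + 1 = G.edgeSet.ncard :=
      Set.ncard_sdiff_singleton_add_one h (Set.toFinite _)
    have h2 := Set.ncard_image_le (f := Sym2.map (fold u w)) (Set.toFinite (G.edgeSet \ {s(u, w)}))
    omega
  · exact hconn.card_vert_le_card_edgeSet_add_one

/-- Slide everything at `w` onto `u`. -/
def slide (T : MarkedTree k) (u w : Fin T.n) (h : T.graph.Adj u w) : MarkedTree k where
  n := T.n
  graph := slideGraph T.graph u w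
  isTree := slide_isTree T.isTree h
  mark := fun i => fold u w (T.mark i)

theorem slide_adj_iff {n : ℕ} {G : SimpleGraph (Fin n)} {u w : Fin n} (huw : u ≠ w) (a b : Fin n) :
    (slideGraph G u w).Adj a b ↔ a ≠ b ∧ (s(a, b) = s(u, w) ∨
      ∃ x y, G.Adj x y ∧ fold u w x = a ∧ fold u w y = b) := by
  constructor
  · rintro ⟨h1, h2⟩
    refine ⟨h2, ?_⟩
    rcases h1 with h1 | ⟨e, ⟨he, -⟩, h3⟩
    · exact Or.inl h1
    · induction e using Sym2.ind with
      | _ x y =>
        rw [Sym2.map_mk, Sym2.eq_iff] at h3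
        rcases h3 with ⟨hx, hy⟩ | ⟨hx, hy⟩
        · exact Or.inr ⟨x, y, he, hx, hy⟩
        · exact Or.inr ⟨y, x, G.adj_symm he, hy, hx⟩
  · rintro ⟨hne, h | ⟨x, y, hxy, rfl, rfl⟩⟩
    · exact ⟨Or.inl h, hne⟩
    · exact slide_adj_of_adj hxy hne

theorem contract_slide {n : ℕ} {G : SimpleGraph (Fin n)} {u w : Fin n} (huw : u ≠ w) :
    contract (slideGraph G u w) u w = contract G u w := by
  ext ⟨a, ha⟩ ⟨b, hb⟩
  simp only [contract, fromRel_adj, slide_adj_iff huw, ne_eq, Subtype.mk.injEq, and_congr_right_iff]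
  intro hab
  constructor
  · intro H
    have key : ∀ a b : Fin n, a ≠ w → b ≠ w → (∃ x y, G.Adj x y ∧ fold u w x = a ∧ fold u w y = b) →
        (G.Adj a b ∨ (a = u ∧ G.Adj w b)) ∨ (G.Adj b a ∨ (b = u ∧ G.Adj w a)) ∨ a = b := by
      rintro a b ha hb ⟨x, y, hxy, hx, hy⟩
      by_cases h1 : x = w <;> by_cases h2 : y = w <;> simp [fold, h1, h2] at hx hy <;>
        subst hx <;> subst hy
      · exact absurd (h1.trans h2.symm) hxy.ne
      · subst h1; exact Or.inl (Or.inr ⟨rfl, hxy⟩)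
      · subst h2; exact Or.inr (Or.inl (Or.inr ⟨rfl, G.adj_symm hxy⟩))
      · exact Or.inl (Or.inl hxy)
    rcases H with (⟨-, h | h⟩ | ⟨rfl, -, h | h⟩) | (⟨-, h | h⟩ | ⟨rfl, -, h | h⟩)
    all_goals
      first
      | (simp only [Sym2.eq_iff] at h; grind)
      | (have := key _ _ ha hb h; tauto)
      | (have := key _ _ hb ha h; tauto)
      | (obtain ⟨x, y, -, hx, -⟩ := h; exact absurd hx (fold_ne huw x))
  · have fa : fold u w a = a := by simp [fold, ha]
    have fb : fold u w b = b := by simp [fold, hb]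
    have fw : fold u w w = u := by simp [fold]
    rintro ((h | ⟨rfl, h⟩) | (h | ⟨rfl, h⟩))
    · exact Or.inl (Or.inl ⟨hab, Or.inr ⟨a, b, h, fa, fb⟩⟩)
    · exact Or.inl (Or.inl ⟨hab, Or.inr ⟨w, b, h, fw, fb⟩⟩)
    · exact Or.inr (Or.inl ⟨Ne.symm hab, Or.inr ⟨b, a, h, fb, fa⟩⟩)
    · exact Or.inr (Or.inl ⟨Ne.symm hab, Or.inr ⟨w, a, h, fw, fa⟩⟩)

theorem adj_slide (T : MarkedTree k) (u w : Fin T.n) (h : T.graph.Adj u w) :
    ConicAdj T (slide T u w h) := by
  refine ⟨u, w, u, w, h, slide_adj_uw h.ne,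
    ⟨Equiv.refl _, ?_⟩, rfl, fun i => ?_⟩
  · intro a b
    exact Iff.of_eq (congrArg (fun g : SimpleGraph _ => g.Adj a b) (contract_slide h.ne))
  · apply Subtype.ext
    show (contractMark T.mark u w h.ne i).1 = (contractMark (fun i => fold u w (T.mark i)) u w h.ne i).1
    have hne := fold_ne h.ne (T.mark i)
    simp only [contractMark, hne, dite_false]
    unfold fold; split_ifs <;> rfl

theorem conicAdj_symm {T₁ T₂ : MarkedTree k} (h : ConicAdj T₁ T₂) : ConicAdj T₂ T₁ := by
  obtain ⟨u₁, w₁, u₂, w₂, h₁, h₂, φ, hu, hm⟩ := h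
  exact ⟨u₂, w₂, u₁, w₁, h₂, h₁, φ.symm, (by rw [← hu]; exact φ.symm_apply_apply _),
    fun i => (by rw [← hm i]; exact φ.symm_apply_apply _)⟩

/-- `r` is the centre of a star carrying all marks. -/
def IsStar (T : MarkedTree k) (r : Fin T.n) : Prop :=
  (∀ a b, T.graph.Adj a b ↔ a ≠ b ∧ (a = r ∨ b = r)) ∧ ∀ i, T.mark i = r

theorem isStar_of_stuck (T : MarkedTree k) (r : Fin T.n)
    (h : ∀ w, T.graph.Adj r w → (∀ i, T.mark i ≠ w) ∧ ∀ b, T.graph.Adj w b → b = r) :
    IsStar T r := by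
  have key : ∀ {a b : Fin T.n}, T.graph.Walk a b → (a = r ∨ T.graph.Adj r a) → (b = r ∨ T.graph.Adj r b) := by
    intro a b p
    induction p with
    | nil => exact id
    | cons hadj p ih =>
      intro ha; apply ih
      rcases ha with rfl | ha
      · exact Or.inr hadj
      · exact Or.inl ((h _ ha).2 _ hadj)
  have all : ∀ b, b = r ∨ T.graph.Adj r b := fun b => by
    obtain ⟨p⟩ := T.isTree.connected r b
    exact key p (Or.inl rfl)
  refine ⟨fun a b => ⟨fun hab => ⟨hab.ne, ?_⟩, ?_⟩, fun i => ?_⟩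
  · rcases all a with ha | ha
    · exact Or.inl ha
    · exact Or.inr ((h _ ha).2 _ hab)
  · rintro ⟨hne, rfl | rfl⟩
    · exact (all b).resolve_left (Ne.symm hne)
    · exact T.graph.adj_symm ((all a).resolve_left hne)
  · exact (all (T.mark i)).resolve_right fun hi => (h _ hi).1 i rfl

open Classical in
noncomputable def measure (T : MarkedTree k) (r : Fin T.n) : ℕ :=
  (Finset.univ.filter fun b => ¬ T.graph.Adj r b).card + (Finset.univ.filter fun i => T.mark i ≠ r).card

theorem reach_star (m : ℕ) : ∀ (T : MarkedTree k) (r : Fin T.n), measure T r ≤ m →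
    ∃ S r', S.n = T.n ∧ IsStar S r' ∧ ReflTransGen ConicAdj T S := by
  classical
  induction m with
  | zero =>
    intro T r hm
    simp only [measure, Nat.le_zero, add_eq_zero, Finset.card_eq_zero, Finset.filter_eq_empty_iff,
      Finset.mem_univ, forall_const, not_not] at hm
    exact absurd (hm.1 (x := r)) (T.graph.loopless.irrefl r)
  | succ m ih =>
    intro T r hm
    by_cases hs : IsStar T r
    · exact ⟨T, r, rfl, hs, .refl⟩
    have : ∃ w, T.graph.Adj r w ∧ ((∃ i, T.mark i = w) ∨ ∃ b, T.graph.Adj w b ∧ b ≠ r) := by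
      by_contra hcon; push_neg at hcon
      exact hs (isStar_of_stuck T r fun w hw => ⟨(hcon w hw).1, (hcon w hw).2⟩)
    obtain ⟨w, hw, hcase⟩ := this
    have hlt : measure (slide T r w hw) r < measure T r := by
      unfold measure
      have e1 : (Finset.univ.filter fun b => ¬ (slide T r w hw).graph.Adj r b) ⊆
          (Finset.univ.filter fun b => ¬ T.graph.Adj r b) := by
        intro b; simp only [Finset.mem_filter, Finset.mem_univ, true_and]
        intro hb hadj; apply hb
        by_cases hbw : b = w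
        · rw [hbw]; exact slide_adj_uw hw.ne
        · exact (slide_adj_iff hw.ne r b).2 ⟨hadj.ne, Or.inr ⟨r, b, hadj, if_neg hw.ne, if_neg hbw⟩⟩
      have e2 : (Finset.univ.filter fun i => (slide T r w hw).mark i ≠ r) ⊆
          (Finset.univ.filter fun i => T.mark i ≠ r) := by
        intro i; simp only [Finset.mem_filter, Finset.mem_univ, true_and, slide]
        intro hi he; apply hi; simp [fold, he]
      rcases hcase with ⟨i, hi⟩ | ⟨b, hwb, hbr⟩
      · refine add_lt_add_of_le_of_lt (Finset.card_le_card e1) (Finset.card_lt_card ⟨e2, fun hsub => ?_⟩)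
        have := hsub (Finset.mem_filter.2 ⟨Finset.mem_univ i, by rw [hi]; exact hw.ne.symm⟩)
        simp [slide, fold, hi] at this
      · refine add_lt_add_of_lt_of_le (Finset.card_lt_card ⟨e1, fun hsub => ?_⟩) (Finset.card_le_card e2)
        have hnr : ¬ T.graph.Adj r b := fun hrb => by
          have hac := T.isTree.isAcyclic
          exact hac (Walk.cons hrb (Walk.cons (T.graph.adj_symm hwb) (Walk.cons (T.graph.adj_symm hw) .nil)))
            (by simp [Walk.isCycle_def, Walk.isTrail_def, hw.ne, hw.ne.symm, hwb.ne, hwb.ne.symm, hbr, hbr.symm])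
        have := hsub (Finset.mem_filter.2 ⟨Finset.mem_univ b, hnr⟩)
        simp only [Finset.mem_filter, Finset.mem_univ, true_and] at this
        exact this ((slide_adj_iff hw.ne r b).2 ⟨Ne.symm hbr, Or.inr ⟨w, b, hwb, by simp [fold], by simp [fold, hwb.ne.symm]⟩⟩)
    obtain ⟨S, r', hn, hst, hre⟩ := ih (slide T r w hw) r
      (Nat.le_of_lt_succ (lt_of_lt_of_le hlt hm))
    exact ⟨S, r', hn, hst, .head (adj_slide T r w hw) hre⟩

theorem conicAdj_of_iso {T₁ T₂ : MarkedTree k} (φ : T₁.graph ≃g T₂.graph)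
    (hm : ∀ i, φ (T₁.mark i) = T₂.mark i) (u w : Fin T₁.n) (h : T₁.graph.Adj u w) :
    ConicAdj T₁ T₂ := by
  have h₂ : T₂.graph.Adj (φ u) (φ w) := φ.map_rel_iff.2 h
  refine ⟨u, w, φ u, φ w, h, h₂,
    ⟨φ.toEquiv.subtypeEquiv (fun a => (φ.toEquiv.injective.ne_iff).symm), ?_⟩, rfl, fun i => ?_⟩
  · rintro ⟨a, ha⟩ ⟨b, hb⟩
    simp [contract, φ.map_rel_iff]
  · apply Subtype.ext
    show φ (contractMark T₁.mark u w h.ne i).1 = (contractMark T₂.mark (φ u) (φ w) h₂.ne i).1
    simp only [contractMark, ← hm i, φ.injective.eq_iff]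
    split_ifs <;> rfl

theorem star_rel {S₁ S₂ : MarkedTree k} (h : S₁.n = S₂.n) {r₁ : Fin S₁.n} {r₂ : Fin S₂.n}
    (h₁ : IsStar S₁ r₁) (h₂ : IsStar S₂ r₂) (w : Fin S₁.n) (hw : w ≠ r₁) : ConicAdj S₁ S₂ := by
  let e : Fin S₁.n ≃ Fin S₂.n := (finCongr h).trans (Equiv.swap (finCongr h r₁) r₂)
  have her : e r₁ = r₂ := by simp [e]
  have hiff : ∀ a, e a = r₂ ↔ a = r₁ := fun a => by rw [← her]; exact e.injective.eq_iff
  refine conicAdj_of_iso ⟨e, ?_⟩ (fun i => ?_) r₁ w ((h₁.1 _ _).2 ⟨hw.symm, Or.inl rfl⟩)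
  · intro a b
    show S₂.graph.Adj (e a) (e b) ↔ S₁.graph.Adj a b
    rw [h₁.1, h₂.1, hiff, hiff, e.injective.ne_iff]
  · show e (S₁.mark i) = S₂.mark i
    rw [h₁.2, h₂.2, her]

theorem reverse {A B : MarkedTree k} (h : ReflTransGen ConicAdj A B) :
    ReflTransGen ConicAdj B A := by
  induction h with
  | refl => exact .refl
  | tail _ h ih => exact ReflTransGen.head (conicAdj_symm h) ih

theorem connected_markedTree (T₁ T₂ : MarkedTree k) (h : T₁.n = T₂.n) :
    ReflTransGen ConicAdj T₁ T₂ := by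
  have hpos : ∀ T : MarkedTree k, Nonempty (Fin T.n) := fun T => T.isTree.connected.nonempty
  by_cases h1 : T₁.n = 1
  · obtain ⟨n, G, hG, m⟩ := T₁; obtain ⟨n', G', hG', m'⟩ := T₂
    simp only at h h1; subst h; subst h1
    have : G = G' := by
      ext a b
      simp [Subsingleton.elim a b]
    have : m = m' := funext fun i => Subsingleton.elim _ _
    subst_vars; rfl
  obtain ⟨r₁⟩ := hpos T₁; obtain ⟨r₂⟩ := hpos T₂
  obtain ⟨S₁, c₁, hn₁, hs₁, hre₁⟩ := reach_star _ T₁ r₁ le_rfl
  obtain ⟨S₂, c₂, hn₂, hs₂, hre₂⟩ := reach_star _ T₂ r₂ le_rfl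
  haveI : Nontrivial (Fin S₁.n) := Fin.nontrivial_iff_two_le.2 (by have := r₁.pos; omega)
  obtain ⟨w, hw⟩ := exists_ne c₁
  exact (hre₁.tail (star_rel (by omega) hs₁ hs₂ w hw)).trans (reverse hre₂)

end Groth.L14.Tree
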